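import Cfsg.Agent.Lib.TC.Enum
import Cfsg.Agent.Lib.Ico.J2
import Cfsg.Agent.Lib.FStar.Core

/-!
The involutions of the Hall–Janko group (data generated by tools/j2t).
-/

set_option autoImplicit false
set_option maxRecDepth 100000
set_option Elab.async false

namespace CA.J2t
open Cfsg CA.Fi CA.TC Equiv Subgroup

noncomputable section
def MT : PM := ⟨nat_lit 0x4e2693a8941e5b399443e412b7846a6b1b984a655339349e2cff6e36a3f3190c66391d964ba3ced6ec95dcef88cde26c4994297ecf81c3a11099b3edf8c885bddf0ca922f5f505833f5eb0181355f2bb78ae9e72f8a45630d86138570b4722cdb6e7592c5d4c757aba2f2372c8952ec53af9ecd153295a8ce86341409f51c013b047026d871062bad349986b59fc977a3c928e9492411ee87338dc4ad6fb79608843a2db2856bb4da48365a052acd661fd927e63305807b5e1e542b93c2dd1cb65aa44e672551bcf8ac559b55076521ad44694f270ce894c1992c9331210bc6846a30b85b451650c574115900743e9e8a451299dc9654249d4907138118dc43361a8846031994c83d2090072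38308dcbe5d1a96868332c1549e4e178b8a031158a49a4c250a08e452209478221f8f8401f1d87874360e06c64190c0c02e2d160a82627130444823108302a140e84834080781c1a16058281210070180a040180802009c4d275049149673307a48266f28d40236ea94ca9c3247f4d64edf9b35a62d7723ce312c9738a38de653b9dec361305a4f57b30212e5834319ad98538e6ed17bbe25abd9332598d5702ee03028743e651d97bb573148abc5a6c895ae16ab15b42e3d058cca1f5238baad58d454c1d511f90bedb6ec8840d42a051421f89e8b3f5d69d4e2694913894461a9853bfd2ef94a3c1d292733a1188d4fb9d128843a29b8dd43369b0be42a0d8882673419eb265b1d8c7d629ed7ebc3ca0574785b9d0e6723aacd687056ac15eae55298d8a551a54d46b33a6cde993325926622fa39229047975167c2d16d087f40154bc7e3d140a2533b9349476341c48e6d371148849211a47e631f190ca3b2018474363015c6a5c1a164b0322b0c09c54290b8544f260a04e2f259208c252188482371e8b458221e0707238130cc4823158c42a140b87452120d03c1a1e0b0803e0b0d8242019070600c130504406020601408080380401399d4d2672c974e26f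0d7fca623358d4da552b9844a3f216d481d916934924ed08e4760f2d6745629228c45de12897c417f0a9940d9f0e7d3f6370280af6190682b2a62c8843e1ef09793f1f6f15d2ddaaf97b44dbaed7748d78d75f3a1beb5582bd54a853a99cecb77b615b2554b71d4b879b258ec64ec7a171951279bd006a3f9a6d26031132974b3161ee9823ad24f549b59e89c732d11e8b42b95c8a36da290ce36cb89c2e04da015ccd4aa04fecc68ad94a79619e984c1509e172bb421f96676389b964ac3e1bcdaab58a44d277502913e9032a24cc984d251048e30980b85946991108c43960c45a41950a47b3e9c09e6b3a9d0984b2a9cca26a391b086462e9a082672d914c63c2217cbc3a1c1088e5628134ae48298c45a3e1a138584a1992452261a8f472242008c402e1f8ec3e1d1b86c34360c8c860180b0bc5613150445027128881821078283c090e0382a100285c08140901c10010682c06020300253159544a20f5774722d2e8c49e62f9963b6713a8ecbde10f79399a4d08d33a272899c6e4111983a265398a47a6f199b49610c683416130a87312190b613f1f0f75dae972fa81b3dfb2d814059b356538648ea933be692b65b21e2b88bb1646e361b9582f364ad96a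b459ac94aa451a8942a04fa7a44cc90bee3ef668bb1e8e075a761ae783b9208e24e26d2a9449c01fefe74a49bede6eb71b69a48a411e8e46a31088341204feda6cb61aed66ab51a6c7602fd627e3e9e0eebe5eaf16eb057ab95aac559d8ea74399c8d86b552a550a734a9932983419cc6624ba59168a44a210e612f978b05743214aa803e1eca64f271e8f2712a1c0de4d259248843371b4846a3019882401d994c85d1e1707e5b1c8d866322d164ac5228928602b261405448188bc8e28129188a381f0dc441d120f4741e1a8844c341608c5c2709864522d0b86c201f0c0701c0b0788024080d0502c0d038540803088300400050240c0102cea73388fcd66d3493c46552486cb20f2e7fcc6412699ca2453084c9625299bb961d0a8d46db70682b6a050187c8664e889c765edf7247246dc96c622ed773c5628d995b85b0dd76bb18aef773cd86c17b301aabf7c3ddf6fa5f2f5791081b1a3d0b6f351fcd38638df9088cc5a00fd82309e2e2702d562b057ab558ab552a550a753399f2b47ab59e8f2783add4e94d26530974b271a4c44dab9a2d067ac99ccd6632d94c96431d1e8c45a29128843a190ab659aed74b95c2dcf87b3d1e51c7e52a44faa451a8942a04fa793a76391c0de6e36a411a954a24d246632210e87533a0cca8240a00fe5f2d968b25e399e0e27729944c061361a0a052359a8d24c249188a4b31970c45d2090094582a134ae3d1f158aa3a1c0d09e4e1b11c9031181106e431c8fc5c421489c783b140d44c2311084662f190b4381a160ac541b0c05c2c2510090221f0f074240d060543210048382813030141e080382c1401018080800,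 315, 5, 9, 511⟩
def LT : List Lv := [(0, [[0], [1], [2], [3], [4]], [(0, 1), (5, 0), (5, 2), (10, 1), (10, 2), (13, 3), (4, 0), (4, 2), (20, 1), (20, 3), (24, 2), (24, 4), (1, 2), (11, 1), (11, 3), (15, 0), (15, 3), (31, 2), (31, 4), (34, 1), (34, 4), (6, 1), (6, 3), (21, 0), (21, 3), (19, 2), (19, 4), (9, 1), (9, 3), (25, 2), (25, 4), (43, 1), (43, 4), (46, 0), (46, 4), (48, 3), (2, 3), (12, 2), (12, 4), (18, 3), (32, 2), (32, 4), (30, 1), (30, 4), (3, 3), (17, 2), (17, 4), (37, 1), (37, 3), (37, 4), (61, 0), (61, 4), (59, 3), (53, 1), (53, 4), (62, 3), (65, 2), (7, 4), (23, 4), (27, 4), (47, 1), (47, 4), (41, 4), (42, 3), (8, 4), (28, 4), (52, 0), (52, 3), (52, 4), (51, 2), (51, 4), (50, 3), (72, 4), (80, 3), (79, 2), (40, 4), (71, 3), (82, 2), (83, 1), (33, 3), (55, 4), (63, 3), (58, 3), (60, 2), (39, 3), (66, 1), (66, 4), (70, 4), (69, 3), (57, 4), (68, 3), (67, 2), (93, 3), (101, 2),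 (99, 1), (54, 3), (92, 2), (103, 1), (103, 3), (102, 0), (49, 2), (74, 3), (84, 2), (76, 2), (78, 1), (56, 2), (86, 4), (85, 3), (90, 3), (89, 2), (77, 3), (88, 2), (87, 1), (113, 2), (125, 1), (125, 3), (122, 0), (75, 2), (115, 1), (115, 3), (123, 0), (123, 3), (126, 4), (120, 1), (64, 1), (96, 2), (104, 1), (95, 1), (95, 3), (100, 0), (73, 1), (106, 3), (105, 2), (110, 2), (114, 1), (114, 3), (97, 2), (108, 1), (108, 3), (109, 0), (141, 1), (141, 3), (152, 0), (152, 3), (155, 2), (155, 4), (147, 1), (94, 1), (136, 0), (136, 3), (144, 4), (148, 1), (148, 3), (153, 2), (153, 4), (151, 0), (151, 2), (81, 0), (116, 1), (116, 3), (124, 0), (112, 0), (112, 3), (118, 2), (119, 1), (91, 0), (128, 2), (131, 1), (140, 1), (140, 3), (135, 0), (135, 3), (143, 4), (117, 1), (134, 0), (134, 3), (127, 1), (172, 0), (172, 3), (179, 4), (185, 1), (185, 3), (191, 2), (191, 4), (165, 1), (165, 4), (188,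 0), (188, 2), (111, 0), (160, 1), (160, 3), (175, 2), (175, 4), (189, 0), (189, 2), (189, 3), (186, 2), (186, 4), (195, 3), (195, 4), (184, 2), (194, 3), (98, 1), (137, 0), (137, 3), (149, 1), (130, 1), (130, 3), (139, 2), (142, 1), (150, 0), (150, 2), (107, 1), (164, 1), (164, 3), (169, 0), (171, 0), (171, 3), (180, 4), (159, 1), (174, 4), (138, 0), (158, 1), (158, 3), (170, 2), (166, 0), (166, 2), (205, 1), (205, 3), (220, 2), (220, 4), (254, 0), (254, 2), (254, 3), (240, 4), (271, 1), (271, 4), (218, 0), (218, 4), (210, 3), (129, 1), (213, 0), (213, 2), (213, 3), (207, 2), (207, 4), (228, 3), (228, 4), (234, 2), (234, 3), (260, 3), (255, 2), (255, 4), (245, 1), (245, 4), (275, 4), (197, 3), (214, 3), (274, 2), (121, 0), (161, 3), (176, 2), (168, 0), (168, 2), (178, 1), (173, 0), (183, 2), (133, 0), (133, 2), (217, 0), (217, 3), (204, 1), (204, 3), (221, 2), (221, 4), (211, 3), (227, 3),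 (224, 3), (246, 3), (264, 2), (264, 4), (294, 4), (290, 3), (241, 3), (243, 3), (251, 2), (251, 4), (267, 4), (286, 4), (215, 3), (299, 2), (299, 4), (311, 2), (305, 1), (305, 3), (309, 4), (249, 3), (263, 2), (252, 2), (239, 3), (261, 2), (270, 2), (310, 2), (237, 2), (237, 4), (285, 2), (247, 3), (298, 1), (298, 3), (302, 3), (238, 1), (238, 3), (312, 3), (308, 3)]), (26, [[0], [2], [3], [4], [1, 0, 1, 0, 2, 1, 3, 2, 1, 0, 1, 0, 3, 2, 1]], [(26, 0), (26, 1), (26, 3), (26, 4), (36, 1), (36, 3), (36, 4), (39, 2), (39, 3), (39, 4), (17, 2), (17, 4), (287, 1), (287, 2), (287, 3), (287, 4), (50, 2), (50, 3), (25, 2), (25, 4), (311, 2), (311, 3), (311, 4), (56, 1), (56, 3), (56, 4), (28, 2), (28, 4), (307, 2), (307, 3), (307, 4), (9, 1), (9, 4), (47, 1), (47, 2), (47, 3), (295, 3), (215, 1), (215, 3), (289, 2), (289, 4), (288, 2), (67, 1), (67, 3), (67, 4), (37, 2), (15, 1), (40, 3), (260, 1),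 (260, 3), (274, 2), (274, 4), (297, 2), (73, 3), (76, 2), (76, 4), (27, 3), (296, 2), (296, 4), (57, 3), (32, 3), (55, 3), (63, 2), (63, 4), (294, 2), (294, 4), (167, 2), (167, 4), (214, 1), (214, 4), (168, 2), (168, 4), (87, 3), (88, 2), (88, 4), (54, 2), (54, 4), (200, 2), (200, 4), (194, 1), (194, 4), (201, 2), (201, 4), (95, 2), (95, 4), (58, 4), (133, 1), (133, 2), (133, 4), (38, 4), (225, 4), (226, 2), (226, 4), (77, 2), (77, 4), (45, 4), (74, 2), (74, 4), (84, 1), (84, 4), (204, 2), (204, 4), (254, 4), (212, 2), (212, 4), (190, 1), (190, 4), (184, 4), (112, 1), (112, 2), (112, 4), (216, 1), (216, 3), (108, 2), (68, 4), (157, 2), (157, 4), (75, 1), (75, 4), (235, 1), (235, 4), (130, 2), (130, 4), (253, 1), (253, 3), (118, 1), (118, 4), (209, 2), (209, 4), (137, 2), (137, 4), (177, 2), (177, 4), (166, 1), (166, 3), (136, 2), (136, 3), (136, 4), (158, 2), (158, 4), (159, 2), (281, 3),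 (97, 1), (134, 2), (134, 4), (104, 4), (279, 1), (279, 2), (135, 2), (219, 3), (233, 4), (206, 3), (220, 3), (132, 1), (132, 4), (161, 4), (160, 2), (261, 2), (264, 3)]), (23, [[3], [0, 1, 0, 1, 2, 1, 0, 4, 3, 2, 1, 0, 1, 2, 3, 2, 1, 3, 2, 3, 4]], [(23, 0), (23, 1), (30, 1), (280, 0), (280, 1), (262, 0), (262, 1), (284, 1), (237, 0), (213, 1), (241, 1)])]
def XM : ℕ := nat_lit 0x8b0fdbc2941b3af5009ebff9dbfb847107fdcfe0a24ff690f1b917c9923e1887cca3f11e268200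
def FM : ℕ := nat_lit 0x305824414433
def wa : List ℕ := [0]
def bs : List ℕ := [0, 26, 23]
def WH : List (List ℕ) := [[3], [0, 1, 0, 1, 2, 1, 0, 4, 3, 2, 1, 0, 1, 2, 3, 2, 1, 3, 2, 3, 4], [0], [1, 4, 3, 2, 3, 4]]
def vA : List (List ℕ) := [[], [], [1, 1, 0], [0, 1], [0], [], [1], [1, 0, 1], [1, 1], [1, 0], [], [1, 1, 0, 1], [0, 1, 0], [0, 1, 1], [1, 0, 1, 1], []]
def vB : List (List ℕ) := [[], [], [], [], [], [], [], [], [2, 3, 2, 3, 2, 3, 3, 2, 3, 2], [3, 2, 3, 2, 3, 3, 2, 3], [], [3, 2, 3, 3], [], [2, 3, 2, 3, 2, 3, 3], [2, 3, 3, 2, 3, 2, 3, 3], [], [3, 3, 2, 3, 2, 3], [2, 3, 2], [], [2, 3, 3, 2, 3, 2, 3, 3, 2, 3, 2], [], [3, 2, 3, 3, 2, 3, 2], [2, 3, 3, 2], [2, 3, 2, 3, 3, 2, 3, 2, 3], [], [], [], [3, 2, 3, 2, 3, 3, 2, 3, 2], [2], [2, 3, 2, 3, 2, 3, 3, 2, 3], [], [], [], [], [], [2, 3, 3, 2, 3, 2, 3], [], [], [3, 2], [3, 3, 2, 3, 2, 3, 3, 2, 3, 2], [2, 3, 2, 3, 3], [], [3, 2, 3, 2, 3,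 3], [], [3, 3, 2, 3, 2, 3, 3], [2, 3, 2, 3, 3, 2, 3, 2], [], [3, 2, 3, 3, 2, 3, 2, 3], [3, 3, 2], [], [], [2, 3, 2, 3, 2, 3, 3, 2], [], [2, 3, 3, 2, 3, 2, 3, 3, 2], [3, 2, 3, 3, 2], [3, 3, 2, 3, 2, 3, 3, 2, 3], [], [], [2, 3, 2, 3, 3, 2, 3, 3], [3], [], [], [], [], [], [2, 3, 2, 3, 3, 2, 3, 2, 3, 3, 2, 3], [2, 3, 2, 3], [], [], [3, 2, 3, 2], [3, 2, 3, 3, 2, 3, 2, 3, 3], [3, 3, 2, 3, 3], [], [2, 3, 3, 2, 3], [], [], [2, 3, 3, 2, 3, 2, 3, 3, 2, 3], [3, 2, 3, 3, 2, 3, 3], [], [2, 3], [3, 2, 3, 2, 3, 3, 2], [], [3, 3, 2, 3, 2, 3, 3, 2], [], [2, 3, 2, 3, 3, 2], [3, 2, 3], [3, 2, 3, 3, 2, 3, 2, 3, 3, 2, 3], [], [], [2, 3, 2, 3, 2], [], [], [], [], [], [2, 3, 3, 2, 3, 3], [2, 3, 2, 3, 3, 2, 3, 2, 3, 3], [3, 3, 2, 3], [], [], [], [2, 3, 3], [2, 3, 2, 3, 2, 3, 3, 2, 3, 3], [3, 2, 3, 3, 2, 3], [], [3, 3], [], [2, 3, 2, 3, 3, 2, 3], [3, 2, 3, 2, 3, 3, 2, 3, 3], [], [2, 3, 2, 3, 2, 3], [2, 3, 3, 2,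 3, 2], [], [3, 2, 3, 3, 2, 3, 2, 3, 3, 2], [], [3, 3, 2, 3, 2], [3, 2, 3, 2, 3], [2, 3, 2, 3, 3, 2, 3, 2, 3, 3, 2], [], [], [], [], [], [], []]
def WP : List (List ℕ) := [[2, 3], [1, 0, 1, 0, 4, 3, 2, 1, 3, 2, 3, 4, 3, 2, 1, 0, 3, 2, 1, 0, 1, 3, 4], [2]]
def CL : List (List ℕ) := [[0, 26, 23], [0, 56, 6], [0, 253, 237], [0, 39, 12], [0, 87, 1], [0, 75, 6], [0, 73, 1], [0, 205, 277], [0, 264, 238], [0, 26, 30], [0, 39, 49], [0, 50, 12], [0, 138, 280], [0, 67, 6], [0, 104, 1], [0, 94, 1], [0, 162, 280], [0, 206, 284], [0, 219, 258], [0, 201, 241], [0, 220, 243], [0, 56, 11], [0, 253, 251], [0, 39, 19], [0, 26, 78], [0, 26, 64], [0, 36, 30], [0, 50, 49], [0, 36, 23], [0, 220, 238], [0, 172, 277], [0, 84, 6], [0, 63, 12], [0, 173, 280], [0, 54, 12], [0, 206, 280], [0, 226, 243], [0, 94, 29], [0, 281, 285], [0, 138, 266], [0, 173, 262], [0, 219, 270], [0, 45, 64], [0, 212, 246], [0, 168, 251],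 [0, 216, 213], [0, 87, 4], [0, 75, 11], [0, 73, 4], [0, 205, 258], [0, 264, 247], [0, 39, 60], [0, 56, 42], [0, 253, 213], [0, 56, 33], [0, 253, 241], [0, 67, 11], [0, 216, 251], [0, 50, 19], [0, 36, 78], [0, 36, 64], [0, 216, 237], [0, 168, 241], [0, 264, 243], [0, 173, 284], [0, 281, 258], [0, 45, 30], [0, 63, 49], [0, 45, 23], [0, 212, 238], [0, 219, 277], [0, 38, 30], [0, 54, 49], [0, 38, 23], [0, 226, 238], [0, 281, 277], [0, 168, 213], [0, 54, 60], [0, 75, 42], [0, 172, 270], [0, 220, 246], [0, 87, 22], [0, 212, 247], [0, 104, 4], [0, 138, 262], [0, 205, 285], [0, 173, 266], [0, 84, 33], [0, 226, 247], [0, 172, 285], [0, 94, 4], [0, 162, 262], [0, 206, 266], [0, 201, 213], [0, 87, 29], [0, 73, 29], [0, 75, 33], [0, 73, 22], [0, 205, 270], [0, 264, 246], [0, 84, 11], [0, 172, 258], [0, 220, 247], [0, 50, 60], [0, 67, 42], [0, 67, 33], [0, 216, 241], [0, 281, 270], [0, 38, 64], [0, 226,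 246], [0, 201, 251], [0, 212, 243], [0, 104, 29], [0, 219, 285], [0, 162, 266], [0, 206, 262], [0, 63, 19], [0, 45, 78], [0, 201, 237], [0, 138, 284], [0, 54, 19], [0, 38, 78], [0, 168, 237], [0, 162, 284], [0, 104, 22], [0, 94, 22], [0, 84, 42], [0, 63, 60]]
def UC : List (List ℕ × List ℕ) := [([], []), ([0], []), ([1], [2, 1, 0, 4, 3, 2, 1, 0, 1, 3, 4]), ([2], [1, 0, 1, 0, 2, 1]), ([0, 0], []), ([0, 1], []), ([0, 2], [2]), ([1, 0], []), ([1, 2], []), ([2, 0], []), ([2, 1], []), ([0, 0, 0], []), ([0, 0, 1], []), ([0, 0, 2], [1, 0, 2, 1, 0, 1, 3]), ([0, 1, 0], []), ([0, 1, 2], []), ([0, 2, 1], [2, 1, 0, 1, 0, 4, 3, 2, 1, 3, 4]), ([1, 0, 0], []), ([1, 0, 1], []), ([1, 2, 0], []), ([1, 2, 1], [1, 2, 3, 2, 1, 4, 3, 2, 1, 0, 1, 0, 3, 2, 1, 3]), ([2, 0, 0], [1, 0, 1, 0, 2, 1, 3]), ([2, 0, 1], []), ([2, 0, 2], []), ([2, 1, 0], [2, 1, 0, 1, 0, 4, 3, 2, 1, 3, 2, 4]), ([2, 1, 2], [2, 1, 0, 4, 3,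 2, 1, 0, 1, 3, 2, 4]), ([0, 0, 0, 0], []), ([0, 0, 0, 1], []), ([0, 0, 0, 2], [2, 3, 2]), ([0, 0, 1, 0], []), ([0, 0, 1, 2], []), ([0, 0, 2, 1], []), ([0, 1, 0, 0], []), ([0, 1, 0, 1], []), ([0, 1, 2, 0], []), ([0, 1, 2, 1], []), ([1, 0, 0, 0], []), ([1, 0, 0, 1], []), ([1, 0, 0, 2], []), ([1, 0, 1, 0], []), ([1, 0, 1, 2], []), ([1, 2, 0, 0], []), ([1, 2, 0, 1], [2, 3, 2, 1, 0, 4, 3, 2, 1, 0, 1, 3, 4]), ([1, 2, 0, 2], []), ([1, 2, 1, 0], []), ([1, 2, 1, 2], []), ([2, 0, 0, 0], [2, 3]), ([2, 0, 0, 1], []), ([2, 0, 0, 2], []), ([2, 0, 1, 0], []), ([2, 0, 1, 2], []), ([2, 0, 2, 1], []), ([2, 1, 0, 0], []), ([2, 1, 0, 1], []), ([2, 1, 2, 0], []), ([2, 1, 2, 1], []), ([0, 0, 0, 0, 0], []), ([0, 0, 0, 0, 1], [2, 1, 3, 2, 1, 0, 1, 0, 4, 3, 2, 1, 0, 3, 2, 1, 4, 3]), ([0, 0, 0, 0, 2], [1, 0, 2, 1, 0, 1]), ([0, 0, 0, 1, 0], [2, 1, 0, 1, 0, 3, 2, 1, 4, 3, 2, 1, 0, 1, 0, 3, 2, 1, 4]), ([0, 0, 0, 1,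 2], [2, 1, 0, 3, 2, 1, 0, 1, 4, 3, 2, 1, 0, 3, 2, 1, 0, 1, 4]), ([0, 0, 0, 2, 1], []), ([0, 0, 1, 0, 0], [2, 1, 3, 2, 1, 0, 1, 0, 4, 3, 2, 1, 0, 3, 2, 1, 4]), ([0, 0, 1, 0, 1], []), ([0, 0, 1, 2, 0], [2, 1, 0, 3, 2, 1, 0, 4, 3, 2, 1, 0, 1, 3, 2, 1, 4]), ([0, 0, 1, 2, 1], []), ([0, 1, 0, 0, 0], [2, 1, 0, 3, 2, 4, 3, 2, 1, 0, 1, 0, 2, 3, 2, 1, 4]), ([0, 1, 0, 0, 1], []), ([0, 1, 0, 0, 2], [2, 1, 0, 1, 0, 3, 4, 3, 2, 1, 3, 2, 4]), ([0, 1, 0, 1, 0], []), ([0, 1, 0, 1, 2], []), ([0, 1, 2, 0, 0], [2, 1, 0, 3, 2, 1, 0, 4, 3, 2, 1, 0, 3, 2, 1, 4]), ([0, 1, 2, 0, 1], []), ([0, 1, 2, 0, 2], [2, 1, 0, 3, 4, 3, 2, 1, 0, 1, 3, 2, 4]), ([0, 1, 2, 1, 0], []), ([0, 1, 2, 1, 2], []), ([1, 0, 0, 0, 2], []), ([1, 0, 0, 1, 0], []), ([1, 0, 0, 1, 2], []), ([1, 0, 0, 2, 1], [1, 2, 3, 2, 1, 4, 3, 2, 1, 0, 1, 0, 3, 2, 1]), ([1, 0, 1, 0, 0], []), ([1, 0, 1, 0, 1], []), ([1, 0, 1, 2, 0], []), ([1, 0, 1, 2, 1], []),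 ([1, 2, 0, 0, 0], [2, 1, 0, 3, 2, 1, 0, 4, 3, 2, 1, 0, 1, 3, 2, 1, 4, 3]), ([1, 2, 0, 0, 1], [1, 2, 3, 2, 1, 0, 4, 3, 2, 1, 0, 1, 0, 3, 2, 1]), ([1, 2, 0, 0, 2], []), ([1, 2, 0, 1, 0], []), ([1, 2, 0, 2, 1], []), ([1, 2, 1, 2, 0], []), ([2, 0, 0, 1, 2], []), ([2, 0, 0, 2, 1], []), ([2, 0, 1, 0, 0], [2, 1, 0, 1, 0, 3, 4, 3, 2, 1, 3, 4]), ([2, 0, 1, 2, 0], [2, 1, 0, 3, 4, 3, 2, 1, 0, 1, 3, 4]), ([2, 1, 0, 0, 0], []), ([2, 1, 0, 0, 2], []), ([2, 1, 2, 0, 1], []), ([2, 1, 2, 0, 2], []), ([2, 1, 2, 1, 0], []), ([2, 1, 2, 1, 2], [1, 2, 3, 2, 1, 0, 4, 3, 2, 1, 0, 1, 0, 3, 2, 1, 3]), ([0, 0, 0, 0, 0, 1], []), ([0, 0, 0, 0, 1, 0], []), ([0, 0, 0, 0, 1, 2], []), ([0, 0, 0, 0, 2, 1], []), ([0, 0, 0, 1, 0, 0], []), ([0, 0, 0, 1, 2, 0], []), ([0, 0, 0, 1, 2, 1], []), ([0, 0, 1, 0, 0, 0], []), ([0, 0, 1, 0, 0, 1], [1, 0, 1, 0, 2, 1, 3, 4]), ([0, 0, 1, 0, 0, 2], []), ([0, 0, 1, 0, 1, 0], []), ([0, 0, 1,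 2, 0, 0], []), ([0, 0, 1, 2, 0, 1], [2, 3, 2, 1, 0, 1, 0, 4, 3, 2, 1, 3, 2, 4]), ([0, 0, 1, 2, 0, 2], []), ([0, 0, 1, 2, 1, 0], []), ([0, 0, 1, 2, 1, 2], []), ([0, 1, 0, 0, 0, 2], []), ([0, 1, 0, 0, 1, 0], [1, 0, 2, 1, 0, 1, 3, 4]), ([0, 1, 0, 0, 2, 1], []), ([0, 1, 0, 1, 2, 0], []), ([0, 1, 2, 0, 0, 2], []), ([0, 1, 2, 0, 1, 0], [2, 3, 2, 1, 0, 1, 0, 4, 3, 2, 1, 3, 4]), ([0, 1, 2, 0, 2, 1], []), ([0, 1, 2, 1, 2, 0], []), ([1, 2, 0, 0, 2, 1], []), ([1, 2, 0, 1, 0, 0], [2, 3, 2, 1, 0, 4, 3, 2, 1, 0, 1, 3, 2, 4]), ([0, 0, 0, 1, 0, 0, 1], []), ([0, 0, 1, 2, 0, 1, 0], [])]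
abbrev A4 := alternatingGroup (Fin 4)
abbrev A5 := alternatingGroup (Fin 5)
abbrev V4 := Multiplicative (ZMod 2) × Multiplicative (ZMod 2)
def d1 : A4 := ⟨swap 0 1 * swap 2 3, Perm.mem_alternatingGroup.2 (by decide)⟩
def d2 : A4 := ⟨swap 0 2 * swap 1 3, Perm.mem_alternatingGroup.2 (by decide)⟩
def sH (i : ℕ) : A4 × A5 := [(d1, 1), (⟨swap 0 2 * swap 0 1, Perm.mem_alternatingGroup.2 (by decide)⟩, 1),
  (1, ⟨swap 0 1 * swap 2 3, Perm.mem_alternatingGroup.2 (by decide)⟩),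
  (1, ⟨swap 0 4 * swap 0 2, Perm.mem_alternatingGroup.2 (by decide)⟩)].getD i 1
def vH (x : A4 × A5) : List ℕ := vA.getD (4 * (x.1.1 0).val + (x.1.1 1).val) [] ++
  vB.getD (25 * (x.2.1 0).val + 5 * (x.2.1 1).val + (x.2.1 2).val) []
def eqW (u v : List ℕ) : Bool := MT.eqOn bs u v
def κ : V4 →* A4 := MonoidHom.mk' (fun x => d1 ^ x.1.toAdd.val * d2 ^ x.2.toAdd.val) (by decide +kernel)
end

theorem c_inv : MT.invol = true := by decide +kernel
theorem c_R : allL MT.triv RJ2 = true := by decide +kernel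
theorem c_L : MT.chain LT = true := by decide +kernel
theorem b_L : 604800 = PM.bound LT := by decide +kernel
theorem c_H : ∀ x, (ev sH (vH x) = x ∧ ∀ i ∈ vH x, i < 4) ∧ (eqW (flW WH (vH x)) [] = true → x = 1) ∧
    ∀ i < 4, eqW (flW WH (vH (x * sH i))) (flW WH (vH x ++ [i])) = true := by decide +kernel
theorem c_ct : ∀ u ∈ UC, eqW (flW WP u.1 ++ flW WP u.1) [] = true → eqW (flW WP u.1) [] = true ∨
    eqW (u.2 ++ flW WP u.1) (wa ++ u.2) = true ∨ eqW (u.2 ++ flW WP u.1) ([3] ++ u.2) = true := by decide +kernel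

theorem exists_mod : ∃ (γ : ℕ → Spor.J2) (ρ : Spor.J2 →* Perm ℕ), Mod MT 604800 γ ρ := by
  obtain ⟨a, b, c, d, e, R, ht, hc⟩ := Ico.exists_J2Rel
  obtain ⟨φ, h0, h1, h2, h3, h4⟩ := R.hom (PM.fam c_inv c_R (e := 5) le_rfl).j2Rel ht hc
  have hm : ∀ i, φ ([a, b, c, d, e].getD i 1) = MT.τ i := fun i => by
    match i with
    | 0 => exact h0
    | 1 => exact h1
    | 2 => exact h2
    | 3 => exact h3
    | 4 => exact h4
    | i + 5 => exact (map_one φ).trans (PM.fam c_inv c_R (e := i + 5) (Nat.le_add_left 5 i)).one.symm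
  have : Finite Spor.J2 := Nat.finite_of_card_ne_zero (by omega)
  have : Finite φ.range := Finite.of_surjective _ φ.rangeRestrict_surjective
  have h7 := PM.chain_spec c_inv LT φ.range (fun w _ => ev_mem fun i _ => ⟨_, hm i⟩) c_L
  exact ⟨_, φ, c_inv, Subtype.val_injective.comp (φ.rangeRestrict_surjective.bijective_of_nat_card_le
    (hc.trans_le (b_L ▸ h7))).1, hm, hc⟩

variable {G : Type*} [Group G] [Finite G] {γ : ℕ → G} {ρ : G →* Perm ℕ} (h : Mod MT 604800 γ ρ)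
include h

theorem classes {t : G} (ht : orderOf t = 2) : IsConj t (ev γ wa) ∨ IsConj t (ev γ [3]) := by
  obtain ⟨P, hP, mP⟩ := h.enum c_L b_L (W := WP) (U := UC.map (·.1)) (CL := CL) (by decide +kernel) (by decide +kernel)
    (by decide +kernel) (by decide +kernel)
  obtain ⟨Q, hQ⟩ := (IsPGroup.of_card (p := 2) (n := 1) (G := zpowers t) (by rw [Nat.card_zpowers, ht]; rfl)).exists_le_sylow
  obtain ⟨c, hc⟩ := MulAction.exists_smul_eq G Q (Sylow.ofCard (p := 2) P (by rw [hP, h.card]; decide +kernel))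
  have hm : c * t * c⁻¹ ∈ ((c • Q : Sylow 2 G) : Subgroup G) := ⟨t, hQ (mem_zpowers t), rfl⟩
  rw [hc] at hm
  obtain ⟨_, hu', e⟩ := (mP _).1 hm
  obtain ⟨u, hu, rfl⟩ := List.mem_map.1 hu'
  have key : ∀ w, eqW (u.2 ++ flW WP u.1) (w ++ u.2) = true → IsConj t (ev γ w) := fun w hw => by
    have := h.ev_eq c_L b_L hw
    rw [ev_append, ev_append, e] at this
    exact isConj_iff.2 ⟨ev γ u.2 * c, by rw [← mul_inv_cancel_right (ev γ w) (ev γ u.2), ← this]; group⟩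
  rcases c_ct u hu (h.eqOn_of _ (by rw [ev_append, e, conj_mul, ← sq, ← ht, pow_orderOf_eq_one]; simp)) with k | k | k
  · have := (h.ev_eq c_L b_L k).symm.trans e
    rw [ev_nil, eq_comm, conj_eq_one_iff] at this
    rw [this, orderOf_one] at ht; omega
  exacts [Or.inl (key _ k), Or.inr (key _ k)]

theorem card_stb : Nat.card ((Stb (tb FM · = true)).comap ρ) ≤ 720 := by
  set K := (Fx [0]).comap ρ
  have lt := h.lt_iff c_L b_L
  have h1 := card_le_of_fiber ((Stb (tb FM · = true)).comap ρ) K (fun c => ρ c 0)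
    ((Finset.range 315).filter (tb FM · = true)) (fun c hc => Finset.mem_filter.2
      ⟨Finset.mem_range.2 ((lt c _).2 (by decide)), (hc _).2 (by decide +kernel)⟩) (fun n _ m _ e p hp => by
      rw [map_mul, map_inv, Perm.mul_apply, Perm.inv_eq_iff_eq, List.mem_singleton.1 hp]; exact e.symm)
  have h2 := card_le_of_fiber ((Stb (tb FM · = true)).comap ρ ⊓ K) ((Fx [0, 26]).comap ρ) (fun c => ρ c 26)
    ((Finset.range 315).filter fun p => tb FM p = true ∧ tb XM p = true) (fun c hc => Finset.mem_filter.2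
      ⟨Finset.mem_range.2 ((lt c _).2 (by decide)), (hc.1 _).2 (by decide +kernel),
        ((h.tight (L1 := LT.take 1) (L2 := LT.drop 1) c_L b_L).2 (Stb (tb XM · = true)) (fun w hw => h.ρ_ev w ▸
          h.ev_mem_Stb ((by decide +kernel : ∀ w ∈ PM.gens (LT.drop 1), ∀ p < 315, tb XM (MT.ap w p) = tb XM p) w hw))
          c hc.2 _).2 (by decide +kernel)⟩) (fun n hn m hm e p hp => by
      rcases List.mem_cons.1 hp with rfl | hp
      · exact K.mul_mem (K.inv_mem hn.2) hm.2 _ (by simp)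
      · rw [map_mul, map_inv, Perm.mul_apply, Perm.inv_eq_iff_eq, List.mem_singleton.1 hp]; exact e.symm)
  have h3 := (card_le_of_le (inf_le_right : (Stb (tb FM · = true)).comap ρ ⊓ K ⊓ (Fx [0, 26]).comap ρ ≤ _)).trans
    ((h.tight (L1 := LT.take 2) (L2 := LT.drop 2) c_L b_L).1.trans_eq (show _ = 12 by decide +kernel))
  rw [show Finset.card _ = 15 by decide +kernel] at h1
  rw [show Finset.card _ = 4 by decide +kernel] at h2
  omega

theorem main {b : G} (hb : b = ev γ [3]) : Nonempty (centralizer ({b} : Set G) ≃* V4 × A5) ∧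
    Nonempty (normalizer (((pCore 2 (centralizer ({b} : Set G))).map (centralizer ({b} : Set G)).subtype :
      Subgroup G) : Set G) ≃* A4 × A5) := by
  obtain ⟨φ, hi, hφ⟩ := h.hom_W c_L b_L (by decide +kernel) c_H
  have eb : φ (d1, 1) = b := (hφ _).trans ((congrArg _ (by decide +kernel)).trans hb.symm)
  have lt := h.lt_iff c_L b_L
  have e1 : φ.range = (Stb (tb FM · = true)).comap ρ := by
    refine eq_of_le_of_card_ge ?_ ((card_stb h).trans_eq ?_)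
    · rintro _ ⟨x, rfl⟩
      rw [hφ, flW, ← ev_flatMap]
      exact ev_mem fun i hi => h.ev_mem_Stb ((by decide +kernel :
        ∀ i < 4, ∀ p < 315, tb FM (MT.ap (WH.getD i []) p) = tb FM p) i ((c_H x).1.2 i hi))
    · rw [← Nat.card_congr (φ.ofInjective hi).toEquiv, Nat.card_prod, nat_card_alternatingGroup,
        nat_card_alternatingGroup]; simp [Nat.factorial]
  let θ : V4 × A5 →* G := φ.comp (κ.prodMap (MonoidHom.id A5))
  set V := (MonoidHom.inl V4 A5).range.map θ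
  have e2 : ∀ n : G, (∀ k : G, k = n ∨ k = n⁻¹ → k⁻¹ * b * k ∈ V) → n ∈ φ.range := fun n hn => by
    have key : ∀ k : G, k = n ∨ k = n⁻¹ → ∀ p, tb FM p = true → tb FM (ρ k p) = true := fun k hk p hp => by
      obtain ⟨_, ⟨v, rfl⟩, e⟩ := hn k hk
      have p1 : p < 315 := by
        by_contra c
        have := Nat.ge_two_pow_of_testBit (show FM.testBit p = true from tb_eq FM p ▸ hp)
        exact absurd ((Nat.pow_le_pow_right (by norm_num) (not_lt.1 c)).trans this) (by decide +kernel)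
      have e3 : ρ (k⁻¹ * b * k) p = p := by
        rw [← e]
        change ρ (φ (κ v, 1)) p = p
        rw [hφ]
        exact h.fix_iff.2 ((by decide +kernel : ∀ v, ∀ p < 315, tb FM p = true → MT.ap (flW WH (vH (κ v, 1))) p = p) v p p1 hp)
      rw [map_mul, map_mul, map_inv, Perm.mul_apply, Perm.mul_apply, Perm.inv_eq_iff_eq, hb] at e3
      exact (by decide +kernel : ∀ p < 315, MT.ap [3] p = p → tb FM p = true) _ ((lt k p).2 p1) (h.fix_iff.1 e3)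
    rw [e1]
    exact fun p => ⟨fun hp => by simpa using key n⁻¹ (Or.inr rfl) _ hp, key n (Or.inl rfl) p⟩
  have ti : Function.Injective θ := hi.comp (Function.Injective.prodMap (f := κ) (by decide +kernel) Function.injective_id)
  have bV : b ∈ V := ⟨_, ⟨(.ofAdd 1, 1), rfl⟩, eb ▸ congrArg φ (by decide +kernel)⟩
  have e3 : θ.range = centralizer {b} := by
    ext c
    rw [mem_centralizer_singleton_iff]
    constructor
    · rintro ⟨x, rfl⟩
      rw [← eb]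
      change φ _ * _ = _ * φ _
      rw [← map_mul, ← map_mul]
      exact congrArg φ (Prod.ext ((by decide +kernel : ∀ v, κ v * d1 = d1 * κ v) x.1) (by simp))
    · intro hc
      obtain ⟨x, rfl⟩ := e2 c (by
        rintro k (rfl | rfl)
        · rwa [mul_assoc, ← hc, inv_mul_cancel_left]
        · rwa [inv_inv, hc, mul_inv_cancel_right])
      rw [← eb, ← map_mul, ← map_mul] at hc
      obtain ⟨v, hv⟩ := (by decide +kernel : ∀ a : A4, a * d1 = d1 * a → ∃ v, κ v = a) x.1 (congrArg Prod.fst (hi hc))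
      exact ⟨(v, x.2), congrArg φ (Prod.ext hv rfl)⟩
  let f := (θ.ofInjective ti).trans (MulEquiv.subgroupCongr e3)
  have e4 : pCore 2 (V4 × A5) = (MonoidHom.inl V4 A5).range := by
    rw [show (MonoidHom.inl V4 A5).range = (MonoidHom.snd V4 A5).ker from
      Subgroup.ext fun x => ⟨fun ⟨_, e⟩ => e ▸ rfl, fun e => ⟨x.1, Prod.ext rfl e.symm⟩⟩]
    refine le_antisymm ?_ (Core.le_pCore inferInstance fun x => ⟨1, Subtype.ext (Prod.ext
      ((by decide : ∀ v : V4, v ^ 2 ^ 1 = 1) _) ((congrArg (· ^ 2 ^ 1) x.2).trans (one_pow _)))⟩)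
    rw [← Subgroup.map_eq_bot_iff]
    refine (Normal.map inferInstance _ Prod.snd_surjective).eq_bot_or_eq_top.resolve_right fun e => ?_
    obtain ⟨k, hk⟩ := ((Core.pCore_isPGroup 2 (V4 × A5)).map (MonoidHom.snd V4 A5)).exists_card_eq
    rw [e, card_top, nat_card_alternatingGroup] at hk
    have : 3 ∣ 2 ^ k := hk ▸ by simp [Nat.factorial]
    exact absurd (Nat.Prime.dvd_of_dvd_pow (by norm_num) this) (by norm_num)
  have e5 : (pCore 2 (centralizer ({b} : Set G))).map (centralizer ({b} : Set G)).subtype = V := by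
    rw [← Core.map_pCore_equiv f, e4, map_map]; rfl
  rw [e5]
  refine ⟨⟨f.symm⟩, ⟨((φ.ofInjective hi).trans (MulEquiv.subgroupCongr (le_antisymm ?_ fun n hn => e2 n ?_))).symm⟩⟩
  · rintro _ ⟨x, rfl⟩
    refine mem_normalizer_fintype ?_
    rintro _ ⟨_, ⟨v, rfl⟩, rfl⟩
    obtain ⟨w, hw⟩ := (by decide +kernel : ∀ (a : A4) v, ∃ w, κ w = a * κ v * a⁻¹) x.1 v
    refine ⟨_, ⟨w, rfl⟩, ?_⟩
    change φ _ = _ * φ _ * _
    rw [← map_inv, ← map_mul, ← map_mul]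
    exact congrArg φ (Prod.ext hw (by simp))
  · rintro k (rfl | rfl)
    · simpa using (mem_normalizer_iff.1 (inv_mem hn) b).1 bV
    · simpa using (mem_normalizer_iff.1 hn b).1 bV

omit h in
/-- the conclusion of S5382 for the Hall–Janko group -/
theorem j2_two (e : Spor.IsoJ2 G) (z t : G) (hz : orderOf z = 2) (hc : Nat.card (centralizer ({z} : Set G)) = 1920)
    (ht : orderOf t = 2) (htz : ¬ IsConj t z) : Nonempty (centralizer ({t} : Set G) ≃* V4 × A5) ∧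
    Nonempty (normalizer (((pCore 2 (centralizer ({t} : Set G))).map (centralizer ({t} : Set G)).subtype :
      Subgroup G) : Set G) ≃* A4 × A5) := by
  obtain ⟨γ, ρ, h⟩ := exists_mod
  obtain ⟨e⟩ := e
  replace h := h.equiv e
  have key := fun (u : G) (hu : IsConj u (ev (fun i => e.symm (γ i)) [3])) => (isConj_iff.1 hu.symm).elim fun c hc =>
    main (h.conj c) (b := u) (hc.symm.trans (map_ev (MulAut.conj c).toMonoidHom _ _))
  refine key t ((classes h ht).resolve_left fun k => htz (k.trans ((classes h hz).resolve_right fun k => ?_).symm))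
  obtain ⟨f⟩ := (key z k).1
  rw [Nat.card_congr f.toEquiv, Nat.card_prod, nat_card_alternatingGroup] at hc
  simp [Nat.factorial] at hc

end CA.J2t
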